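import Groth.Agent.Lib.Pic18.Birational

/-!
# Invertible modules lift along closed immersions into schemes of dimension one with Noetherian space

A variant of `Pic18.exists_chart` / `Pic18.exists_pullback_iso` without Noetherian local rings.
-/

set_option autoImplicit false
set_option linter.style.haveILetI false
universe u

open CategoryTheory AlgebraicGeometry TopologicalSpace Opposite IsLocalRing

namespace Groth.Agent.PicNS15

open Groth.Agent.M1 Groth.Agent.Pic18

variable {X : Scheme.{u}} (U : X.Opens) (hdisc : DiscreteTopology ↥((U : Set X)ᶜ)) [QuasiCompact U.ι] {x : X} (hx : x ∉ U)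
  [Finite (PrimeSpectrum (X.presheaf.stalk x))] (hd : ringKrullDim (X.presheaf.stalk x) ≤ 1)

include hdisc hx in
/-- An affine neighbourhood on which `U` is a basic open inside a given open containing the punctured
spectrum of the local ring. -/
theorem exists_chart (W : X.Opens) (hW : ∀ η, η ⤳ x → η ≠ x → η ∈ W) :
    ∃ (V : X.Opens) (f : Γ(X, V)), IsAffineOpen V ∧ x ∈ V ∧ (∀ z ∈ V, z ∉ U → z = x) ∧
      V ⊓ U = X.basicOpen f ∧ X.basicOpen f ≤ W := by
  obtain ⟨A₀, hxA₀, hA₀⟩ := exists_open_inter_compl U hdisc hx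
  obtain ⟨_, ⟨A : X.Opens, hA, rfl⟩, hxA, hAA₀⟩ :=
    X.isBasis_affineOpens.exists_subset_of_mem_open hxA₀ A₀.2
  let R := X.presheaf.stalk x
  let φ : Γ(X, A) →+* R := (X.presheaf.germ A x hxA).hom
  let F : Set (PrimeSpectrum R) := {q | q ≠ IsLocalRing.closedPoint R}
  let pt : PrimeSpectrum R → X := fun q => X.fromSpecStalk x q
  have hpt : ∀ q ∈ F, pt q ∈ A ⊓ U ⊓ W := by
    intro q hq
    have hs : pt q ⤳ x := (Scheme.range_fromSpecStalk (x := x)).subset ⟨q, rfl⟩
    have hne : pt q ≠ x := fun h => hq ((X.fromSpecStalk x).isEmbedding.injective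
      (h.trans Scheme.fromSpecStalk_closedPoint.symm))
    exact ⟨⟨hs.mem_open A.2 hxA, generization_mem U hdisc hx hs hne⟩, hW _ hs hne⟩
  choose! a ha hqa using fun q (hq : q ∈ F) =>
    hA.exists_basicOpen_le (V := A ⊓ U ⊓ W) ⟨pt q, hpt q hq⟩ (hpt q hq).1.1
  -- prime avoidance
  obtain ⟨f, hfI, hfF⟩ : ∃ f ∈ Ideal.span (a '' F), ∀ q ∈ F, φ f ∉ q.asIdeal := by
    by_contra hcon
    push Not at hcon
    have hsub : ((Ideal.span (a '' F) : Ideal Γ(X, A)) : Set Γ(X, A)) ⊆
        ⋃ q ∈ F, ((q.asIdeal.comap φ : Ideal Γ(X, A)) : Set Γ(X, A)) := fun f hf => by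
      obtain ⟨q, hq, h⟩ := hcon f hf
      exact Set.mem_biUnion hq h
    obtain ⟨q, hq, hle⟩ := (Ideal.subset_union_prime_finite (Set.toFinite F)
      (f := fun q : PrimeSpectrum R => q.asIdeal.comap φ) (IsLocalRing.closedPoint R)
      (IsLocalRing.closedPoint R) fun q _ _ _ => inferInstance).1 hsub
    exact (fromSpecStalk_mem_basicOpen_iff hxA (a q) q).1 (hqa q hq)
      (hle (Ideal.subset_span ⟨q, hq, rfl⟩))
  have hfle : X.basicOpen f ≤ A ⊓ U ⊓ W := by
    intro z hz
    have hzA : z ∈ A := X.basicOpen_le f hz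
    rw [X.mem_basicOpen f z hzA] at hz
    by_contra hzW
    have hle : Ideal.span (a '' F) ≤
        (maximalIdeal (X.presheaf.stalk z)).comap (X.presheaf.germ A z hzA).hom := by
      rw [Ideal.span_le]
      rintro _ ⟨q, hq, rfl⟩ hu
      exact hzW (ha q hq ((X.mem_basicOpen (a q) z hzA).2 hu))
    exact hle hfI hz
  -- comparison with the basic opens covering `A ⊓ U`
  let H := {h : Γ(X, A) // X.basicOpen h ≤ U}
  have hcompact : IsCompact ((A ⊓ U : X.Opens) : Set X) := by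
    have h := (U.ι.isCompact_preimage hA.isCompact).image U.ι.continuous
    rwa [Scheme.Hom.coe_preimage, Set.image_preimage_eq_inter_range, Scheme.Opens.range_ι] at h
  obtain ⟨t, ht⟩ := hcompact.elim_finite_subcover (fun h : H => (X.basicOpen h.1 : Set X))
    (fun h => (X.basicOpen h.1).2) fun z hz => by
      obtain ⟨h, hle, hzh⟩ := hA.exists_basicOpen_le (V := U) ⟨z, hz.2⟩ hz.1
      exact Set.mem_iUnion.2 ⟨⟨h, hle⟩, hzh⟩
  have hnear : ∀ h : H, ∀ᶠ z in nhds x, z ∈ X.basicOpen h.1 → z ∈ X.basicOpen f := by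
    intro h
    have hrad : φ h.1 ∈ (Ideal.span {φ f}).radical := by
      rw [Ideal.radical_eq_sInf, Submodule.mem_sInf]
      rintro P ⟨hPf, hP⟩
      have hmem : φ f ∈ P := hPf (Ideal.mem_span_singleton_self _)
      have hcl : (⟨P, hP⟩ : PrimeSpectrum R) = IsLocalRing.closedPoint R :=
        by_contra fun hne => hfF ⟨P, hP⟩ hne hmem
      have e : P = maximalIdeal R := congrArg PrimeSpectrum.asIdeal hcl
      rw [e]
      exact fun hu => hx (h.2 ((X.mem_basicOpen h.1 x hxA).2 hu))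
    obtain ⟨n, hn⟩ := hrad
    obtain ⟨c, hc⟩ := Ideal.mem_span_singleton'.1 hn
    obtain ⟨B, hxB, r, hr⟩ := X.presheaf.exists_germ_eq c
    have hxAB : x ∈ A ⊓ B := ⟨hxA, hxB⟩
    have e : X.presheaf.germ (A ⊓ B) x hxAB (ores (inf_le_left : A ⊓ B ≤ A) h.1 ^ n) =
        X.presheaf.germ (A ⊓ B) x hxAB
          (ores (inf_le_right : A ⊓ B ≤ B) r * ores (inf_le_left : A ⊓ B ≤ A) f) := by
      rw [map_pow, map_mul, X.presheaf.germ_res_apply, X.presheaf.germ_res_apply,
        X.presheaf.germ_res_apply, hr]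
      exact hc.symm
    obtain ⟨Z, hxZ, i₁, i₂, hz⟩ := X.presheaf.germ_eq x hxAB hxAB _ _ e
    refine Filter.eventually_of_mem (Z.2.mem_nhds hxZ) fun z (hzZ : z ∈ Z) hzh => ?_
    have hzAB : z ∈ A ⊓ B := i₁.le hzZ
    have h2 := congrArg (X.presheaf.germ Z z hzZ) hz
    simp only [ores, TopCat.Presheaf.germ_res_apply, map_pow, map_mul] at h2
    rw [X.mem_basicOpen h.1 z hzAB.1] at hzh
    rw [X.mem_basicOpen f z hzAB.1]
    exact isUnit_of_mul_isUnit_right (h2 ▸ hzh.pow n)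
  obtain ⟨O, hO, hOo, hxO⟩ := eventually_nhds_iff.1 ((t.eventually_all).2 fun h _ => hnear h)
  obtain ⟨_, ⟨V : X.Opens, hV, rfl⟩, hxV, hVO⟩ :=
    X.isBasis_affineOpens.exists_subset_of_mem_open (show x ∈ O ∩ A from ⟨hxO, hxA⟩) (hOo.inter A.2)
  have hVA : V ≤ A := fun z hz => (hVO hz).2
  refine ⟨V, ores hVA f, hV, hxV, fun z hz => hA₀ z (hAA₀ (hVA hz)), ?_, ?_⟩
  · rw [Scheme.basicOpen_res]
    ext z
    constructor
    · rintro ⟨hzV, hzU⟩
      obtain ⟨h, hh, hzh⟩ := Set.mem_iUnion₂.1 (ht ⟨hVA hzV, hzU⟩)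
      exact ⟨hzV, hO z (hVO hzV).1 h hh hzh⟩
    · rintro ⟨hzV, hzf⟩
      exact ⟨hzV, (hfle hzf).1.2⟩
  · rw [Scheme.basicOpen_res]
    exact inf_le_right.trans (hfle.trans inf_le_right)

theorem finite_spec_stalk {Y : Scheme.{u}} [NoetherianSpace Y] (y : Y)
    (hd : ringKrullDim (Y.presheaf.stalk y) ≤ 1) : Finite (PrimeSpectrum (Y.presheaf.stalk y)) := by
  have hfin : (irreducibleComponents (Y : Type u)).Finite := NoetherianSpace.finite_irreducibleComponents
  haveI : Finite ↥(irreducibleComponents (Y : Type u)) := hfin.to_subtype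
  choose η hη using fun Z : irreducibleComponents (Y : Type u) =>
    QuasiSober.sober Z.2.1 (isClosed_of_mem_irreducibleComponents _ Z.2)
  have h : (Set.range (Y.fromSpecStalk y)).Finite := by
    refine ((Set.finite_singleton y).union (Set.finite_range η)).subset fun a ha => ?_
    by_cases hay : a = y
    · exact Or.inl hay
    · refine Or.inr ⟨⟨_, AffineFin18.closure_mem_irreducibleComponents fun b hb =>
        eq_of_specializes hd ((Scheme.range_fromSpecStalk (x := y)).subset ha) hay hb⟩, ?_⟩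
      exact (IsGenericPoint.eq (show IsGenericPoint a (closure {a}) from rfl) (hη _)).symm
  haveI := h.to_subtype
  exact Finite.of_injective (fun q => (⟨Y.fromSpecStalk y q, q, rfl⟩ : Set.range (Y.fromSpecStalk y)))
    fun a b e => (Y.fromSpecStalk y).isEmbedding.injective (congrArg Subtype.val e :)

variable {Y : Scheme.{u}} (f : X ⟶ Y) [IsFinite f] [NoetherianSpace Y] (V : Y.Opens) (L : X.Modules)

/-- A dense open inside `V` over which `L` is trivial. -/
theorem exists_dense_trivial (hV : Dense (V : Set Y)) (hL : PicF.IsInvertible L) :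
    ∃ (U : Y.Opens) (g : Γ(L, f ⁻¹ᵁ U)), U ≤ V ∧ Twist.IsGen L (f ⁻¹ᵁ U) g ∧
      ∀ Z ∈ irreducibleComponents (Y : Type u), ∀ η : Y, closure {η} = Z → η ∈ U := by
  classical
  have hfin : (irreducibleComponents (Y : Type u)).Finite := NoetherianSpace.finite_irreducibleComponents
  haveI := hfin.to_subtype
  choose η hη using fun Z : irreducibleComponents (Y : Type u) =>
    QuasiSober.sober Z.2.1 (isClosed_of_mem_irreducibleComponents _ Z.2)
  choose D l hηD hl using fun Z => exists_gen_over f hL (η Z)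
  have hclosed : ∀ Z : irreducibleComponents (Y : Type u),
      IsClosed (⋃ Z' ∈ (irreducibleComponents (Y : Type u) \ {Z.1}), Z') := fun Z =>
    hfin.sdiff.isClosed_biUnion fun W hW => isClosed_of_mem_irreducibleComponents W hW.1
  let B : irreducibleComponents (Y : Type u) → Y.Opens := fun Z =>
    V ⊓ D Z ⊓ ⟨_, (hclosed Z).isOpen_compl⟩
  have hnot : ∀ Z, η Z ∉ (⋃ Z' ∈ (irreducibleComponents (Y : Type u) \ {Z.1}), Z') := fun Z h => by
    obtain ⟨Z', ⟨hZ', hne⟩, hmem⟩ := Set.mem_iUnion₂.1 h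
    have hle : Z.1 ⊆ Z' := (hη Z).symm.le.trans
      (closure_minimal (Set.singleton_subset_iff.2 hmem) (isClosed_of_mem_irreducibleComponents _ hZ'))
    exact hne (le_antisymm (Z.2.2 hZ'.1 hle) hle)
  have hηV : ∀ Z, η Z ∈ V := fun Z => by
    obtain ⟨z, hz, hzV⟩ := hV.exists_mem_open (hclosed Z).isOpen_compl ⟨η Z, hnot Z⟩
    obtain ⟨W, hW, hzW⟩ : ∃ W ∈ irreducibleComponents (Y : Type u), z ∈ W :=
      ⟨irreducibleComponent z, irreducibleComponent_mem_irreducibleComponents z, mem_irreducibleComponent⟩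
    have hWZ : W = Z.1 := by
      by_contra h
      exact hzV (Set.mem_iUnion₂.2 ⟨W, ⟨hW, h⟩, hzW⟩)
    exact ((hη Z).specializes (hWZ ▸ hzW)).mem_open V.2 hz
  have hdisj : ∀ Z Z', Z ≠ Z' → B Z ⊓ B Z' ≤ ⊥ := fun Z Z' hne z hz => by
    have hmem := mem_irreducibleComponent (x := z)
    have h1 : irreducibleComponent z = Z.1 := not_not.1 fun h => hz.1.2 (Set.mem_iUnion₂.2
      ⟨_, ⟨irreducibleComponent_mem_irreducibleComponents z, h⟩, hmem⟩)
    have h2 : irreducibleComponent z = Z'.1 := not_not.1 fun h => hz.2.2 (Set.mem_iUnion₂.2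
      ⟨_, ⟨irreducibleComponent_mem_irreducibleComponents z, h⟩, hmem⟩)
    exact absurd (Subtype.ext (h1.symm.trans h2)) hne
  obtain ⟨g, hg, -⟩ := TopCat.Sheaf.existsUnique_gluing' ⟨L.presheaf, L.isSheaf⟩ (fun Z => f ⁻¹ᵁ B Z)
    (f ⁻¹ᵁ ⨆ Z, B Z) (fun Z => homOfLE (f.preimage_mono (le_iSup B Z)))
    (fun z hz => by
      obtain ⟨Z, hZ⟩ := Opens.mem_iSup.1 (show f z ∈ ⨆ Z, B Z from hz)
      exact Opens.mem_iSup.2 ⟨Z, hZ⟩)
    (fun Z => mres L (f.preimage_mono (inf_le_left.trans inf_le_right : B Z ≤ D Z)) (l Z)) fun Z Z' => by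
      by_cases h : Z = Z'
      · subst h; rfl
      · haveI := Curve17.subsingleton_sections_of_empty L (f ⁻¹ᵁ B Z ⊓ f ⁻¹ᵁ B Z') fun z hz =>
          (hdisj Z Z' h (show f z ∈ B Z ⊓ B Z' from hz)).elim
        exact Subsingleton.elim (α := Γ(L, f ⁻¹ᵁ B Z ⊓ f ⁻¹ᵁ B Z')) _ _
  refine ⟨⨆ Z, B Z, g, iSup_le fun Z => inf_le_left.trans inf_le_left, Twist.isGen_of_stalk fun z hz => ?_,
    fun Z hZ ξ hξ => Opens.mem_iSup.2 ⟨⟨Z, hZ⟩, ?_⟩⟩
  · obtain ⟨Z, hZ⟩ := Opens.mem_iSup.1 (show f z ∈ ⨆ Z, B Z from hz)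
    have hzB : z ∈ f ⁻¹ᵁ B Z := hZ
    have e1 : (L.presheaf.germ (f ⁻¹ᵁ ⨆ Z, B Z) z hz g : L.presheaf.stalk z) =
        L.presheaf.germ (f ⁻¹ᵁ D Z) z hZ.1.2 (l Z) := by
      rw [← L.presheaf.germ_res_apply (homOfLE (f.preimage_mono (le_iSup B Z))) z hzB]
      exact (congrArg (L.presheaf.germ (f ⁻¹ᵁ B Z) z hzB) (hg Z)).trans (germ_mres L _ _ _)
    rw [e1]
    exact (hl Z).stalk hZ.1.2
  · obtain rfl : ξ = η ⟨Z, hZ⟩ := IsGenericPoint.eq (show IsGenericPoint ξ Z from hξ) (hη ⟨Z, hZ⟩)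
    exact ⟨⟨hηV _, hηD _⟩, hnot _⟩

/-- Invertible modules come from the target. -/
theorem exists_pullback_iso (hdim : topologicalKrullDim Y ≤ 1) (hV : Dense (V : Set Y))
    (hfV : IsClosedImmersion (f ∣_ V)) (hL : PicF.IsInvertible L) :
    ∃ N : Y.Modules, PicF.IsInvertible N ∧ Nonempty ((Scheme.Modules.pullback f).obj N ≅ L) := by
  classical
  obtain ⟨U, g, hUV, hg, hgenU⟩ := exists_dense_trivial f V L hV hL
  have hd : ∀ y : Y, ringKrullDim (Y.presheaf.stalk y) ≤ 1 := fun y =>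
    (VB17.ringKrullDim_stalk_le_topologicalKrullDim y).trans hdim
  have hmax : ∀ η : Y, (∀ b, b ⤳ η → b = η) → η ∈ U := fun η h =>
    hgenU _ (AffineFin18.closure_mem_irreducibleComponents h) η rfl
  have hclosedpt : ∀ y : Y, y ∉ U → IsClosed ({y} : Set Y) := fun y hy => by
    refine closure_subset_iff_isClosed.1 fun y' hy' => ?_
    have hs : y ⤳ y' := specializes_iff_mem_closure.2 hy'
    by_contra hne
    exact hy (hmax y fun b hb => eq_of_specializes (hd y') hs (fun h => hne h.symm) hb)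
  haveI hdisc : DiscreteTopology ↥((U : Set Y)ᶜ) := by
    haveI : T1Space ↥((U : Set Y)ᶜ) := ⟨fun x => by
      rw [show ({x} : Set ↥((U : Set Y)ᶜ)) = Subtype.val ⁻¹' {x.1} from Set.ext fun z => Subtype.coe_inj.symm]
      exact (hclosedpt x.1 x.2).preimage continuous_subtype_val⟩
    haveI : Finite ↥((U : Set Y)ᶜ) := by
      obtain ⟨S, hS, -, hSi, hU⟩ :=
        NoetherianSpace.exists_finite_set_isClosed_irreducible (show IsClosed ((U : Set Y)ᶜ) from U.2.isClosed_compl)
      refine Set.Finite.to_subtype ?_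
      rw [hU]
      refine hS.sUnion fun t ht => Set.Subsingleton.finite ?_
      obtain ⟨ξ, hξ⟩ := QuasiSober.sober (hSi t ht).closure isClosed_closure
      have hξU : ξ ∈ (U : Set Y)ᶜ :=
        closure_minimal ((Set.subset_sUnion_of_mem ht).trans hU.symm.le) U.2.isClosed_compl
          (hξ.symm ▸ subset_closure rfl)
      intro a ha b hb
      have h1 : ∀ z ∈ t, z = ξ := fun z hz => by
        have : z ∈ closure ({ξ} : Set Y) := hξ.symm ▸ subset_closure hz
        rwa [(hclosedpt ξ hξU).closure_eq] at this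
      rw [h1 a ha, h1 b hb]
    infer_instance
  haveI : QuasiCompact U.ι := by
    haveI : CompactSpace U.toScheme := isCompact_iff_compactSpace.1 (NoetherianSpace.isCompact _)
    exact quasiCompact_of_compactSpace _
  -- charts at the remaining points
  have hchart : ∀ y : {y : Y // y ∉ U}, ∃ (W : Y.Opens) (l : Γ(L, f ⁻¹ᵁ W)) (w : Γ(Y, W ⊓ U)),
      y.1 ∈ W ∧ (∀ z ∈ W, z ∉ U → z = y.1) ∧ Twist.IsGen L (f ⁻¹ᵁ W) l ∧ IsUnit w ∧
      f.app (W ⊓ U) w • mres L (f.preimage_mono inf_le_right) g =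
        mres L (f.preimage_mono inf_le_left) l := by
    rintro ⟨y, hy⟩
    obtain ⟨D, l, hyD, hl⟩ := exists_gen_over f hL y
    haveI := finite_spec_stalk y (hd y)
    obtain ⟨V₁, h₁, hV₁, hyV₁, -, hV₁U, hh₁⟩ := exists_chart U hdisc hy (D ⊓ U) fun η hη hne =>
      ⟨hη.mem_open D.2 hyD, generization_mem U hdisc hy hη hne⟩
    let A := Y.basicOpen h₁
    have hA : IsAffineOpen A := hV₁.basicOpen h₁
    have hAU : A ≤ U := hh₁.trans inf_le_right
    have hAD : A ≤ D := hh₁.trans inf_le_left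
    obtain ⟨c, hc⟩ := (hg (f ⁻¹ᵁ A) (f.preimage_mono hAU)).2 (mres L (f.preimage_mono hAD) l)
    have hcu : IsUnit c := by
      obtain ⟨c', hc'⟩ := (hl (f ⁻¹ᵁ A) (f.preimage_mono hAD)).2 (mres L (f.preimage_mono hAU) g)
      refine IsUnit.of_mul_eq_one c' ((hg (f ⁻¹ᵁ A) (f.preimage_mono hAU)).1 ?_)
      show (c * c') • mres L (f.preimage_mono hAU) g = (1 : Γ(X, f ⁻¹ᵁ A)) • mres L (f.preimage_mono hAU) g
      rw [one_smul, mul_comm, mul_smul]
      exact (congrArg (c' • ·) hc).trans hc'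
    obtain ⟨w, hw⟩ := app_surjective_of_le f V hfV hA (hAU.trans hUV) c
    haveI : Finite ↥(Spec (Y.presheaf.stalk y)) := ‹Finite (PrimeSpectrum (Y.presheaf.stalk y))›
    let F : Set Y := {η | η ⤳ y ∧ η ≠ y}
    have hF : F.Finite := (Set.finite_range (Y.fromSpecStalk y)).subset fun η hη =>
      (Scheme.range_fromSpecStalk (x := y)).symm.subset hη.1
    have hFA : F ⊆ A := fun η hη => by
      show η ∈ Y.basicOpen h₁
      rw [← hV₁U]
      exact ⟨hη.1.mem_open V₁.2 hyV₁, generization_mem U hdisc hy hη.1 hη.2⟩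
    obtain ⟨w', hw', hw'F⟩ := exists_unit_lift f hA (hA.preimage f).isCompact
      (by
        have hcl : IsClosed (Set.range f) := f.isClosedMap.isClosed_range
        rw [Set.inter_union_distrib_right, Set.union_compl_self, Set.inter_univ]
        exact hcl.union A.2.isClosed_compl)
      w (hw ▸ hcu) hF hFA fun a ha b hb hab => eq_of_specializes (hd y) hb.1 hb.2 hab
    obtain ⟨V₂, h₂, -, hyV₂, hV₂y, hV₂U, hh₂⟩ := exists_chart U hdisc hy (Y.basicOpen w')
      fun η hη hne => hw'F η ⟨hη, hne⟩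
    have hsub : V₂ ⊓ D ⊓ U ≤ Y.basicOpen w' := (inf_le_inf inf_le_left le_rfl).trans (hV₂U.le.trans hh₂)
    have hsubA : V₂ ⊓ D ⊓ U ≤ A := hsub.trans (Y.basicOpen_le w')
    refine ⟨V₂ ⊓ D, mres L (f.preimage_mono inf_le_right) l, ores hsubA w', ⟨hyV₂, hyD⟩,
      fun z hz => hV₂y z hz.1, hl.mres _, ?_, ?_⟩
    · rw [← ores_ores (Y.basicOpen_le w') hsub]
      exact (show IsUnit (ores (Y.basicOpen_le w') w') from Y.toRingedSpace.isUnit_res_basicOpen w').map _
    · have hnat : f.app (V₂ ⊓ D ⊓ U) (ores hsubA w') = ores (f.preimage_mono hsubA) (f.app A w') :=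
        ConcreteCategory.congr_hom (f.naturality (homOfLE hsubA).op) w'
      have h := congrArg (mres L (f.preimage_mono hsubA)) hc
      rw [mres_smul, mres_mres, mres_mres] at h
      rw [hnat, hw', hw, mres_mres]
      exact h
  choose W l w hyW hWy hl hw hlw using hchart
  let G : Glue Y :=
    { U := U
      ι := {y : Y // y ∉ U}
      V := W
      P := Coh.structureModule Y
      g := fun i => w i
      hg := fun i => bijective_smul_one (w i) (hw i)
      hP := fun p hp => ⟨U, _, hp, le_rfl, bijective_smul_one 1 isUnit_one⟩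
      disj := fun i j hij z hz => by
        by_contra hzU
        exact hij (Subtype.ext ((hWy i z hz.1 hzU).symm.trans (hWy j z hz.2 hzU)))
      cov := fun p => (em (p ∈ U)).imp id fun h => ⟨⟨p, h⟩, hyW ⟨p, h⟩⟩ }
  refine ⟨G.mod, G.isInvertible, G.pullback_iso' f
    (fun T hT n => f.app T (show Γ(Y, T) from n) • mres L (f.preimage_mono hT) g) ?_ ?_
    (fun p hp => ⟨U, le_rfl, (1 : Γ(Y, U)), hp, bijective_smul_one 1 isUnit_one, ?_⟩) l hl hlw⟩
  · intro T T' hT h n
    show f.app T' (ores h (show Γ(Y, T) from n)) • _ = _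
    rw [mres_smul, mres_mres]
    refine congrArg (· • mres L (f.preimage_mono (h.trans hT)) g) ?_
    exact ConcreteCategory.congr_hom (f.naturality (homOfLE h).op) (show Γ(Y, T) from n)
  · intro T hT c n
    show f.app T (c * (show Γ(Y, T) from n)) • _ = _
    rw [map_mul, mul_smul]
  · have e : f.app U (show Γ(Y, U) from (1 : Γ(Y, U))) • mres L (f.preimage_mono (le_rfl : U ≤ U)) g = g := by
      rw [map_one, one_smul]
      exact mres_id L (f.preimage_mono (le_rfl : U ≤ U)) g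
    exact e.symm ▸ hg


end Groth.Agent.PicNS15
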